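import Mathlib
import Groth.Prelude.Def_ProjUP
import Groth.Agent.Sga67.PnGlobal
import Groth.Agent.Fdesc.LocGenPullback
import Groth.Agent.S3572
import Groth.Agent.S3573
import Groth.Agent.Ega2.H296.PnGen

/-!
# Automorphisms of projective space from a change of coordinates (helper924)
-/

set_option autoImplicit false
universe u

open CategoryTheory CategoryTheory.Limits AlgebraicGeometry TopologicalSpace Opposite

namespace K924.ProjAut

open Groth.Agent Groth.Agent.Fdesc Groth.Agent.Fdesc.LocGen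

/-! ### Linear algebra -/

section LA

variable {k V W : Type*} [Field k] [AddCommGroup V] [Module k V] [AddCommGroup W] [Module k W]

theorem exists_matrix {m : ℕ} (hm : 0 < m) (T : Module.Basis (Fin m) k V) (hW : Module.finrank k W = m)
    (a b : V →ₗ[k] W) (ha : Function.Injective a) (hb : Function.Injective b) :
    ∃ c c' : Fin m → Fin m → k, (∀ i, a (∑ j, c i j • T j) = b (T i)) ∧
      (∀ i, ∑ j, c i j • ∑ l, c' j l • T l = T i) ∧ (∀ i, ∑ j, c' i j • ∑ l, c j l • T l = T i) := by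
  have hfW : FiniteDimensional k W := Module.finite_of_finrank_pos (by omega)
  have hfV : FiniteDimensional k V := Module.Basis.finiteDimensional_of_finite T
  have hV : Module.finrank k V = m := by rw [Module.finrank_eq_card_basis T, Fintype.card_fin]
  let ea : V ≃ₗ[k] W := LinearEquiv.ofInjectiveOfFinrankEq a ha (hV.trans hW.symm)
  let eb : V ≃ₗ[k] W := LinearEquiv.ofInjectiveOfFinrankEq b hb (hV.trans hW.symm)
  let E : V ≃ₗ[k] V := eb.trans ea.symm
  have h1 : ∀ v, ∑ j, T.repr v j • T j = v := fun v => T.sum_repr v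
  refine ⟨fun i j => T.repr (E (T i)) j, fun i j => T.repr (E.symm (T i)) j, fun i => ?_, fun i => ?_,
    fun i => ?_⟩
  · rw [h1]
    exact ea.apply_symm_apply (eb (T i))
  · simp_rw [h1]
    have : ∑ j, (T.repr (E (T i)) j) • E.symm (T j) = E.symm (∑ j, (T.repr (E (T i)) j) • T j) := by
      rw [map_sum]
      exact Finset.sum_congr rfl fun j _ => (map_smul E.symm _ _).symm
    rw [this, h1, E.symm_apply_apply]
  · simp_rw [h1]
    have : ∑ j, (T.repr (E.symm (T i)) j) • E (T j) = E (∑ j, (T.repr (E.symm (T i)) j) • T j) := by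
      rw [map_sum]
      exact Finset.sum_congr rfl fun j _ => (map_smul E _ _).symm
    rw [this, h1, E.apply_symm_apply]

end LA

/-! ### Sections -/

variable {X Y Z : Scheme.{u}}

theorem pullSec_id {N : Y.Modules} {U : Y.Opens} (m : Γ(N, U)) :
    ((Scheme.Modules.pullbackId Y).hom.app N).app U (LocGen.pullSec (𝟙 Y) m) = m := by
  have h := unit_conjugateEquiv .id (Scheme.Modules.pullbackPushforwardAdjunction (𝟙 Y))
    (Scheme.Modules.pullbackId Y).hom N
  rw [Scheme.Modules.conjugateEquiv_pullbackId_hom] at h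
  exact congr(($(h).app U) m).symm

theorem pullSec_injective_of_eq_id (f : Y ⟶ Y) (hf : f = 𝟙 Y) {N : Y.Modules} {U : Y.Opens} (m m' : Γ(N, U))
    (h : LocGen.pullSec f m = LocGen.pullSec f m') : m = m' := by
  subst hf
  rw [← pullSec_id m, h, pullSec_id]

theorem pullSec_injective_of_isIso (f : X ⟶ Y) [IsIso f] {N : Y.Modules} {U : Y.Opens} (m m' : Γ(N, U))
    (h : LocGen.pullSec f m = LocGen.pullSec f m') : m = m' := by
  apply pullSec_injective_of_eq_id (inv f ≫ f) (by simp)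
  have h1 := pullSec_comp' (inv f) f m
  have h2 := pullSec_comp' (inv f) f m'
  rw [← h1, ← h2, h]


/-! ### The coordinates are a basis of the global sections of `O(1)` -/

section Basis

variable (n : ℕ) (k : Type u) [Field k]

/-- The constants as global functions. -/
noncomputable def glo {k : Type u} [Field k] (p : X ⟶ Spec (CommRingCat.of k)) : k →+* Γ(X, ⊤) :=
  Coh.toGlobal p

/-- The `k`-module structure on global sections of a module over a scheme over `k`. -/
noncomputable abbrev modΓ {k : Type u} [Field k] (p : X ⟶ Spec (CommRingCat.of k)) (M : X.Modules) :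
    Module k Γ(M, ⊤) := Module.compHom Γ(M, ⊤) (glo p)

/-- The enumeration of the exponents of degree one. -/
noncomputable def expOne (i : Fin (n + 1)) : Sga67.PnGlobal.Exp n 1 :=
  ⟨Pi.single i 1, by simp⟩

theorem expOne_bijective : Function.Bijective (expOne n) := by
  rw [Fintype.bijective_iff_injective_and_card]
  constructor
  · intro i j h
    by_contra hne
    have := congrFun (congrArg Subtype.val h) i
    simp [expOne, hne] at this
  · rw [Sga67.PnGlobal.card_exp]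
    simp [Nat.add_comm 1 n]

noncomputable def expEquiv : Fin (n + 1) ≃ Sga67.PnGlobal.Exp n 1 := Equiv.ofBijective _ (expOne_bijective n)

theorem mono_expOne (i : Fin (n + 1)) : (Sga67.PnGlobal.mono k (expOne n i)).1 = MvPolynomial.X i := by
  change MvPolynomial.monomial (Finsupp.equivFunOnFinite.symm (Pi.single i 1)) 1 = _
  have : Finsupp.equivFunOnFinite.symm (Pi.single i 1) = (Finsupp.single i 1 : Fin (n + 1) →₀ ℕ) := by
    ext j
    simp [Finsupp.single_apply]
  rw [this]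
  rfl

theorem smul_coord (c : k) (i : Fin (n + 1)) :
    (glo (CohB1.ProjSpace.toSpec n k) c • (ProjUP.coord n k i : Γ(Twist.twistProjSpace n k 1, ⊤)) :
      Γ(Twist.twistProjSpace n k 1, ⊤)) =
      Groth.Agent.Ega2.TwistBasic.smulS ((1 : ℕ) : ℤ) (Sga67.PnGlobal.glO (r := n) k c)
        (Sga67.PnGlobal.msec k (expOne n i)) := by
  have h : Sga67.PnGlobal.mono k (expOne n i) =
      ⟨MvPolynomial.X i, MvPolynomial.isHomogeneous_X k i⟩ := Subtype.ext (mono_expOne n k i)
  unfold Sga67.PnGlobal.msec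
  rw [h]
  rfl

/-- The linear combinations of the coordinates. -/
theorem exists_basis : letI := modΓ (CohB1.ProjSpace.toSpec n k) (Twist.twistProjSpace n k 1)
    ∃ T : Module.Basis (Fin (n + 1)) k Γ(Twist.twistProjSpace n k 1, ⊤), ∀ i, T i = ProjUP.coord n k i := by
  let := modΓ (CohB1.ProjSpace.toSpec n k) (Twist.twistProjSpace n k 1)
  let t : Fin (n + 1) → Γ(Twist.twistProjSpace n k 1, ⊤) := fun i => ProjUP.coord n k i
  have h1 : ∀ c : Fin (n + 1) → k, Fintype.linearCombination k t c =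
      Sga67.PnGlobal.lin k (fun P => c ((expEquiv n).symm P)) := by
    intro c
    rw [Sga67.PnGlobal.lin_eq, Fintype.linearCombination_apply]
    refine Eq.trans ?_ (Equiv.sum_comp (expEquiv n) _)
    refine Finset.sum_congr rfl fun i _ => ?_
    refine (smul_coord n k (c i) i).trans ?_
    have h2 : c i = c ((expEquiv n).symm (expEquiv n i)) := by rw [Equiv.symm_apply_apply]
    exact congrArg (fun a : k => Groth.Agent.Ega2.TwistBasic.smulS ((1 : ℕ) : ℤ)
      (Sga67.PnGlobal.glO (r := n) k a) (Sga67.PnGlobal.msec k (expOne n i))) h2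
  have hbij : Function.Bijective (Fintype.linearCombination k t) := by
    have h2 : (Fintype.linearCombination k t : (Fin (n + 1) → k) → _) =
        (Sga67.PnGlobal.lin k) ∘ (fun c P => c ((expEquiv n).symm P)) := funext h1
    rw [h2]
    exact (Sga67.PnGlobal.lin_bijective k).comp
      (Equiv.arrowCongr (expEquiv n) (Equiv.refl _)).bijective
  refine ⟨Module.Basis.ofEquivFun (LinearEquiv.ofBijective _ hbij).symm, fun i => ?_⟩
  rw [Module.Basis.coe_ofEquivFun, LinearEquiv.symm_symm]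
  change Fintype.linearCombination k t (Pi.single i 1) = _
  rw [Fintype.linearCombination_apply_single, one_smul]

end Basis


/-! ### Automorphisms -/

section Aut

variable {n : ℕ} {k : Type u} [Field k]

local notation "PP" => CohB1.ProjSpace n k
local notation "O1" => Twist.twistProjSpace n k 1

/-- The coordinate, as a section. -/
noncomputable def T (i : Fin (n + 1)) : Γ(O1, ⊤) := ProjUP.coord n k i

/-- The combination of the coordinates. -/
noncomputable def comb (c : Fin (n + 1) → k) : Γ(O1, ⊤) :=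
  ∑ j, (glo (CohB1.ProjSpace.toSpec n k) (c j) • T j : Γ(O1, ⊤))

/-- The pull-back of a global section. -/
noncomputable def pT (f : X ⟶ Y) {M : Y.Modules} (m : Γ(M, ⊤)) : Γ((Scheme.Modules.pullback f).obj M, ⊤) :=
  LocGen.pullSec f m

theorem pT_add (f : X ⟶ Y) {M : Y.Modules} (m m' : Γ(M, ⊤)) : pT f (m + m') = pT f m + pT f m' :=
  LocGen.pullSec_add f m m'

theorem pT_smul (f : X ⟶ Y) {M : Y.Modules} (a : Γ(Y, ⊤)) (m : Γ(M, ⊤)) :
    pT f (a • m) = (f.appTop a : Γ(X, ⊤)) • pT f m := LocGen.pullSec_smul f a m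

theorem pT_glo {p : Y ⟶ Spec (CommRingCat.of k)} (f : X ⟶ Y) {M : Y.Modules} (a : k) (m : Γ(M, ⊤)) :
    pT f (glo p a • m) = glo (f ≫ p) a • pT f m := pT_smul f _ m

/-- The pull-back as an additive map. -/
noncomputable def pTHom (f : X ⟶ Y) (M : Y.Modules) : Γ(M, ⊤) →+ Γ((Scheme.Modules.pullback f).obj M, ⊤) where
  toFun := pT f
  map_zero' := by
    have := pT_add f (0 : Γ(M, ⊤)) 0
    rw [add_zero] at this
    exact add_eq_left.mp this.symm
  map_add' := pT_add f

theorem pT_comb (f : X ⟶ PP) (c : Fin (n + 1) → k) :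
    pT f (comb c) = ∑ j, (glo (f ≫ CohB1.ProjSpace.toSpec n k) (c j) • pT f (T j) :
      Γ((Scheme.Modules.pullback f).obj O1, ⊤)) := by
  change pTHom f _ (comb c) = _
  unfold comb
  rw [map_sum]
  exact Finset.sum_congr rfl fun j _ => pT_glo f _ _

theorem germ_smul (M : X.Modules) (x : X) (a : Γ(X, ⊤)) (m : Γ(M, ⊤)) :
    M.presheaf.germ ⊤ x trivial (a • m) = X.presheaf.germ ⊤ x trivial a • M.presheaf.germ ⊤ x trivial m :=
  PresheafOfModules.germ_smul (R := X.presheaf)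
    (M := (show PresheafOfModules (X.presheaf ⋙ forget₂ CommRingCat RingCat) from M.val)) x ⊤ trivial a m

theorem generatedBy_T : ProjUP.GeneratedBy O1 (fun i => (T i : ProjUP.Γm O1)) := by
  intro x
  have h0 : x ∈ ⨆ i, CurvesC.ProjSpaceBasic.Dp n k i := by
    rw [CurvesC.ProjSpaceBasic.iSup_Dp]
    trivial
  obtain ⟨i, hi⟩ := Opens.mem_iSup.1 h0
  have h1 := Ega2.H296.PnGen.isGen_res_coord (R := k) (n := n) i
  have h2 := Ega1.GlobGenPt.span_germ_eq_top h1 x hi
  rw [eq_top_iff, ← h2, Submodule.span_le]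
  rintro _ rfl
  rw [Ega1.GlobGenPt.germ_res]
  exact Submodule.subset_span ⟨i, rfl⟩

theorem generatedBy_comb (c c' : Fin (n + 1) → Fin (n + 1) → k)
    (h : ∀ i, ∑ j, (glo (CohB1.ProjSpace.toSpec n k) (c' i j) • comb (c j) : Γ(O1, ⊤)) = T i) :
    ProjUP.GeneratedBy O1 (fun i => (comb (c i) : ProjUP.Γm O1)) := by
  intro x
  rw [eq_top_iff, ← generatedBy_T x, Submodule.span_le]
  rintro _ ⟨i, rfl⟩
  have h1 : (O1 : (CohB1.ProjSpace n k).Modules).presheaf.germ ⊤ x trivial (T i) =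
      ∑ j, (CohB1.ProjSpace n k).presheaf.germ ⊤ x trivial (glo (CohB1.ProjSpace.toSpec n k) (c' i j)) •
        (O1 : (CohB1.ProjSpace n k).Modules).presheaf.germ ⊤ x trivial (comb (c j)) := by
    rw [← h i, map_sum]
    exact Finset.sum_congr rfl fun j _ => germ_smul _ x _ _
  change (O1 : (CohB1.ProjSpace n k).Modules).presheaf.germ ⊤ x trivial (T i) ∈ _
  rw [h1]
  exact Submodule.sum_mem _ fun j _ => Submodule.smul_mem _ _ (Submodule.subset_span ⟨j, rfl⟩)

/-- A morphism from `X` with given sections. -/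
theorem exists_map (q : X ⟶ Spec (CommRingCat.of k)) (L : X.Modules) (hL : PicF.IsInvertible L)
    (s : Fin (n + 1) → Γ(L, ⊤)) (hs : ProjUP.GeneratedBy L (fun i => (s i : ProjUP.Γm L))) :
    ∃ (r : X ⟶ PP) (_ : r ≫ CohB1.ProjSpace.toSpec n k = q) (τ : (Scheme.Modules.pullback r).obj O1 ≅ L),
      ∀ i, τ.hom.app ⊤ (pT r (T i)) = s i :=
  S3572.result n q L hL s hs

theorem ext_map (r r' : X ⟶ PP) (h : r ≫ CohB1.ProjSpace.toSpec n k = r' ≫ CohB1.ProjSpace.toSpec n k)
    {L : X.Modules} (τ : (Scheme.Modules.pullback r).obj O1 ≅ L) (τ' : (Scheme.Modules.pullback r').obj O1 ≅ L)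
    (hτ : ∀ i, τ.hom.app ⊤ (pT r (T i)) = τ'.hom.app ⊤ (pT r' (T i))) : r = r' := by
  refine S3573.result n r r' h (τ ≪≫ τ'.symm) fun i => ?_
  have h1 : (τ ≪≫ τ'.symm).hom.app ⊤ (pT r (T i)) = τ'.inv.app ⊤ (τ.hom.app ⊤ (pT r (T i))) := rfl
  refine h1.trans ?_
  rw [hτ i]
  have h2 : (τ'.hom ≫ τ'.inv).app ⊤ (pT r' (T i)) = pT r' (T i) := by rw [τ'.hom_inv_id]; rfl
  exact h2

/-- Composition: the section `T i` pulled back by a composite. -/
theorem comp_map (f : X ⟶ PP) (σ : PP ⟶ PP) {L : X.Modules} (hσ : σ ≫ CohB1.ProjSpace.toSpec n k =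
    CohB1.ProjSpace.toSpec n k) (c : Fin (n + 1) → Fin (n + 1) → k)
    (τ : (Scheme.Modules.pullback σ).obj O1 ≅ O1) (hτ : ∀ i, τ.hom.app ⊤ (pT σ (T i)) = comb (c i))
    (θ : (Scheme.Modules.pullback f).obj O1 ≅ L) :
    ∃ τ' : (Scheme.Modules.pullback (f ≫ σ)).obj O1 ≅ L, ∀ i,
      τ'.hom.app ⊤ (pT (f ≫ σ) (T i)) = θ.hom.app ⊤ (pT f (comb (c i))) := by
  refine ⟨(Scheme.Modules.pullbackComp f σ).symm.app O1 ≪≫ (Scheme.Modules.pullback f).mapIso τ ≪≫ θ,
    fun i => ?_⟩
  have h1 : ((Scheme.Modules.pullbackComp f σ).inv.app O1).app ⊤ (pT (f ≫ σ) (T i)) = pT f (pT σ (T i)) :=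
    LocGen.pullSec_comp f σ (T i)
  have h2 : ((Scheme.Modules.pullback f).map τ.hom).app ⊤ (pT f (pT σ (T i))) =
      pT f (τ.hom.app ⊤ (pT σ (T i))) := LocGen.pullback_map_pullSec f τ.hom (U := ⊤) (pT σ (T i))
  change θ.hom.app ⊤ (((Scheme.Modules.pullback f).map τ.hom).app ⊤
    (((Scheme.Modules.pullbackComp f σ).inv.app O1).app ⊤ (pT (f ≫ σ) (T i)))) = _
  rw [h1, h2, hτ]

theorem comp_eq_id (σ σ' : PP ⟶ PP) (hσ : σ ≫ CohB1.ProjSpace.toSpec n k = CohB1.ProjSpace.toSpec n k)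
    (hσ' : σ' ≫ CohB1.ProjSpace.toSpec n k = CohB1.ProjSpace.toSpec n k)
    (c c' : Fin (n + 1) → Fin (n + 1) → k)
    (τ : (Scheme.Modules.pullback σ).obj O1 ≅ O1) (hτ : ∀ i, τ.hom.app ⊤ (pT σ (T i)) = comb (c i))
    (τ' : (Scheme.Modules.pullback σ').obj O1 ≅ O1) (hτ' : ∀ i, τ'.hom.app ⊤ (pT σ' (T i)) = comb (c' i))
    (h : ∀ i, ∑ j, (glo (CohB1.ProjSpace.toSpec n k) (c i j) • comb (c' j) : Γ(O1, ⊤)) = T i) :
    σ' ≫ σ = 𝟙 _ := by
  obtain ⟨τ₂, h₂⟩ := comp_map σ' σ hσ c τ hτ τ'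
  refine ext_map (σ' ≫ σ) (𝟙 _) (by rw [Category.assoc, hσ, hσ', Category.id_comp]) τ₂
    ((Scheme.Modules.pullbackId _).app O1) fun i => ?_
  have h3 : ((Scheme.Modules.pullbackId (CohB1.ProjSpace n k)).hom.app O1).app ⊤ (pT (𝟙 _) (T i)) = T i :=
    pullSec_id (T i)
  rw [h₂, pT_comb]
  refine Eq.trans ?_ h3.symm
  rw [← h i, map_sum]
  refine Finset.sum_congr rfl fun j _ => ?_
  rw [Scheme.Modules.Hom.app_smul, hτ', hσ']

theorem exists_aut (c c' : Fin (n + 1) → Fin (n + 1) → k)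
    (h : ∀ i, ∑ j, (glo (CohB1.ProjSpace.toSpec n k) (c i j) • comb (c' j) : Γ(O1, ⊤)) = T i)
    (h' : ∀ i, ∑ j, (glo (CohB1.ProjSpace.toSpec n k) (c' i j) • comb (c j) : Γ(O1, ⊤)) = T i) :
    ∃ (σ : PP ≅ PP) (τ : (Scheme.Modules.pullback σ.hom).obj O1 ≅ O1),
      σ.hom ≫ CohB1.ProjSpace.toSpec n k = CohB1.ProjSpace.toSpec n k ∧
      ∀ i, τ.hom.app ⊤ (pT σ.hom (T i)) = comb (c i) := by
  have hO : PicF.IsInvertible (O1 : (CohB1.ProjSpace n k).Modules) :=
    Ega2.VeryAmpleAmple.isInvertible_twistProjSpace n k 1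
  obtain ⟨σ, hσ, τ, hτ⟩ := exists_map (CohB1.ProjSpace.toSpec n k) O1 hO _ (generatedBy_comb c c' h')
  obtain ⟨σ', hσ', τ', hτ'⟩ := exists_map (CohB1.ProjSpace.toSpec n k) O1 hO _ (generatedBy_comb c' c h)
  exact ⟨⟨σ, σ', comp_eq_id σ' σ hσ' hσ c' c τ' hτ' τ hτ h', comp_eq_id σ σ' hσ hσ' c c' τ hτ τ' hτ' h⟩,
    τ, hσ, hτ⟩

end Aut

end K924.ProjAut
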