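import Mathlib
import Groth.Agent.Ega4late.H544.CotLin
import Groth.Agent.S5769

/-!
# Local homomorphisms injective on cotangent spaces (helper924)

* `mem_sq_of_formallySmooth`: a formally smooth local homomorphism of local rings with surjective residue
  field map is injective on cotangent spaces.
* `injective_of_cotangent`: a local homomorphism from a Noetherian local domain to a regular local ring,
  with surjective residue field map and injective on cotangent spaces, is injective.
-/

set_option autoImplicit false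
universe u

open IsLocalRing

namespace K924.CotInj

variable {A B : Type u} [CommRing A] [CommRing B] [IsLocalRing A] [IsLocalRing B] [Algebra A B]
  [IsLocalHom (algebraMap A B)]

theorem mem_sq_of_formallySmooth [Algebra.FormallySmooth A B]
    (hres : ∀ b : B, ∃ a : A, b - algebraMap A B a ∈ maximalIdeal B) (a : A)
    (ha2 : algebraMap A B a ∈ maximalIdeal B ^ 2) : a ∈ maximalIdeal A ^ 2 := by
  let A₂ := A ⧸ maximalIdeal A ^ 2
  let I : Ideal A₂ := (maximalIdeal A).map (Ideal.Quotient.mk _)
  have hI : I ^ 2 = ⊥ := by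
    rw [← Ideal.map_pow, Ideal.map_quotient_self]
  -- the `A`-algebra map `B → A₂ / I`
  let Q : A →ₐ[A] (B ⧸ maximalIdeal B) := Algebra.ofId _ _
  let P : A →ₐ[A] (A₂ ⧸ I) := Algebra.ofId _ _
  have hQ : Function.Surjective Q := by
    intro b
    obtain ⟨b, rfl⟩ := Ideal.Quotient.mk_surjective b
    obtain ⟨a, ha⟩ := hres b
    exact ⟨a, ((Ideal.Quotient.mk_eq_mk_iff_sub_mem _ _).mpr ha).symm⟩
  have hPQ : ∀ x ∈ RingHom.ker Q, P x = 0 := by
    intro x hx
    have h1 : x ∈ maximalIdeal A := by
      have h2 : Ideal.Quotient.mk (maximalIdeal B) (algebraMap A B x) = 0 := hx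
      rw [Ideal.Quotient.eq_zero_iff_mem] at h2
      by_contra h3
      exact (IsLocalRing.mem_maximalIdeal _ |>.mp h2)
        ((IsLocalRing.notMem_maximalIdeal.mp h3).map (algebraMap A B))
    change Ideal.Quotient.mk I (Ideal.Quotient.mk _ x) = 0
    rw [Ideal.Quotient.eq_zero_iff_mem]
    exact Ideal.mem_map_of_mem _ h1
  let g : B →ₐ[A] (A₂ ⧸ I) := ((Ideal.Quotient.liftₐ (RingHom.ker Q) P hPQ).comp
    (Ideal.quotientKerAlgEquivOfSurjective hQ).symm.toAlgHom).comp (Ideal.Quotient.mkₐ A (maximalIdeal B))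
  have hg : ∀ b ∈ maximalIdeal B, g b = 0 := by
    intro b hb
    have : Ideal.Quotient.mkₐ A (maximalIdeal B) b = 0 := Ideal.Quotient.eq_zero_iff_mem.mpr hb
    change (Ideal.Quotient.liftₐ (RingHom.ker Q) P hPQ) ((Ideal.quotientKerAlgEquivOfSurjective hQ).symm
      (Ideal.Quotient.mkₐ A (maximalIdeal B) b)) = 0
    rw [this, map_zero, map_zero]
  let s : B →ₐ[A] A₂ := Algebra.FormallySmooth.lift I ⟨2, hI⟩ g
  have hs : ∀ b ∈ maximalIdeal B, s b ∈ I := by
    intro b hb
    rw [← Ideal.Quotient.eq_zero_iff_mem]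
    exact (Algebra.FormallySmooth.mk_lift I ⟨2, hI⟩ g b).trans (hg b hb)
  have hs2 : s (algebraMap A B a) = 0 := by
    have h1 : (maximalIdeal B ^ 2).map s ≤ I ^ 2 := by
      have h0 : (maximalIdeal B).map s ≤ I := by
        rw [Ideal.map_le_iff_le_comap]
        intro b hb
        exact hs b hb
      rw [Ideal.map_pow]
      exact Ideal.pow_right_mono h0 2
    have h2 := h1 (Ideal.mem_map_of_mem s ha2)
    rw [hI] at h2
    exact h2
  rw [AlgHom.commutes] at hs2
  exact Ideal.Quotient.eq_zero_iff_mem.mp hs2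

/-- The rank of the cotangent space of the source is at most the rank of its span in the target. -/
theorem finrank_le_finrank_cotSpan [IsNoetherianRing A] [IsNoetherianRing B]
    (hres : ∀ b : B, ∃ a : A, b - algebraMap A B a ∈ maximalIdeal B)
    (hinj : ∀ a ∈ maximalIdeal A, algebraMap A B a ∈ maximalIdeal B ^ 2 → a ∈ maximalIdeal A ^ 2) :
    Module.finrank (ResidueField A) (CotangentSpace A) ≤
      Module.finrank (ResidueField B) (Groth.Agent.Ega4late.H544.CotLin.cotSpan
        ((maximalIdeal A).map (algebraMap A B) : Set B)) := by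
  set r := Module.finrank (ResidueField A) (CotangentSpace A) with hr
  let b := Module.finBasis (ResidueField A) (CotangentSpace A)
  choose y hy using fun i => (maximalIdeal A).toCotangent_surjective (b i)
  have hle : (maximalIdeal A).map (algebraMap A B) ≤ maximalIdeal B :=
    ((IsLocalRing.local_hom_TFAE (algebraMap A B)).out 0 2 rfl rfl).mp ‹IsLocalHom (algebraMap A B)›
  let z : Fin r → maximalIdeal B := fun i => ⟨algebraMap A B (y i), hle (Ideal.mem_map_of_mem _ (y i).2)⟩
  have hli : LinearIndependent (ResidueField B) fun i => (maximalIdeal B).toCotangent (z i) := by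
    rw [Fintype.linearIndependent_iff]
    intro g hg i
    have hsurj : ∀ c : ResidueField B, ∃ a : A, residue B (algebraMap A B a) = c := by
      intro c
      obtain ⟨c, rfl⟩ := residue_surjective c
      obtain ⟨a, ha⟩ := hres c
      refine ⟨a, ?_⟩
      have := (residue_eq_zero_iff _).mpr ha
      rw [map_sub, sub_eq_zero] at this
      exact this.symm
    choose a ha using fun i => hsurj (g i)
    have h1 : (maximalIdeal B).toCotangent (∑ i, algebraMap A B (a i) • z i) = 0 := by
      rw [map_sum, ← hg]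
      refine Finset.sum_congr rfl fun i _ => ?_
      rw [map_smul, ← ha i, Groth.Agent.Ega4late.H544.CotLin.residue_smul]
    rw [Ideal.toCotangent_eq_zero] at h1
    have h2 : ((∑ i, algebraMap A B (a i) • z i : maximalIdeal B) : B) =
        algebraMap A B (∑ i, a i * y i) := by
      rw [Submodule.coe_sum, map_sum]
      refine Finset.sum_congr rfl fun i _ => ?_
      simp [z, Algebra.smul_def]
    rw [h2] at h1
    have h3 : (∑ i, a i * (y i : A)) ∈ maximalIdeal A :=
      Ideal.sum_mem _ fun i _ => Ideal.mul_mem_left _ _ (y i).2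
    have h4 := hinj _ h3 h1
    have h5 : (maximalIdeal A).toCotangent (∑ i, a i • y i) = 0 := by
      rw [Ideal.toCotangent_eq_zero]
      convert h4 using 1
      rw [Submodule.coe_sum]
      rfl
    have h6 : ∑ i, residue A (a i) • b i = 0 := by
      rw [← h5, map_sum]
      refine Finset.sum_congr rfl fun i _ => ?_
      rw [map_smul, hy, Groth.Agent.Ega4late.H544.CotLin.residue_smul]
    have h7 := Fintype.linearIndependent_iff.mp b.linearIndependent _ h6 i
    rw [← ha i, residue_eq_zero_iff]
    exact hle (Ideal.mem_map_of_mem _ ((residue_eq_zero_iff _).mp h7))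
  have h1 : Submodule.span (ResidueField B) (Set.range fun i => (maximalIdeal B).toCotangent (z i)) ≤
      Groth.Agent.Ega4late.H544.CotLin.cotSpan ((maximalIdeal A).map (algebraMap A B) : Set B) := by
    rw [Submodule.span_le]
    rintro _ ⟨i, rfl⟩
    exact Groth.Agent.Ega4late.H544.CotLin.toCotangent_mem_cotSpan _ _ (Ideal.mem_map_of_mem _ (y i).2)
  have h2 := finrank_span_eq_card hli
  rw [Fintype.card_fin] at h2
  rw [← h2]
  exact Submodule.finrank_mono h1

theorem injective_of_cotangent [IsDomain A] [IsNoetherianRing A] [IsRegularLocalRing B]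
    (hres : ∀ b : B, ∃ a : A, b - algebraMap A B a ∈ maximalIdeal B)
    (hinj : ∀ a ∈ maximalIdeal A, algebraMap A B a ∈ maximalIdeal B ^ 2 → a ∈ maximalIdeal A ^ 2) :
    Function.Injective (algebraMap A B) := by
  set J := (maximalIdeal A).map (algebraMap A B) with hJ
  have hle : J ≤ maximalIdeal B :=
    ((IsLocalRing.local_hom_TFAE (algebraMap A B)).out 0 2 rfl rfl).mp ‹IsLocalHom (algebraMap A B)›
  have hJtop : J ≠ ⊤ := fun h => (maximalIdeal.isMaximal B).ne_top (top_le_iff.mp (h ▸ hle))
  have hnt : Nontrivial (B ⧸ J) := Ideal.Quotient.nontrivial_iff.mpr hJtop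
  have hlocBJ : IsLocalRing (B ⧸ J) := .of_surjective' (Ideal.Quotient.mk J) Ideal.Quotient.mk_surjective
  obtain ⟨c, w, hc, hw⟩ := Groth.Agent.Ega4late.H544.CotLin.exists_lift_basis J hle
  have hr := finrank_le_finrank_cotSpan hres hinj
  rw [← hJ] at hr
  -- `dim B / J ≤ c`
  have hBJ : ringKrullDim (B ⧸ J) ≤ (c : WithBot ℕ∞) := by
    have h1 : maximalIdeal (B ⧸ J) = Ideal.span (Set.range fun i => Ideal.Quotient.mk J (w i : B)) := by
      have h2 : (maximalIdeal B).map (Ideal.Quotient.mk J) = maximalIdeal (B ⧸ J) :=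
        IsLocalRing.map_maximalIdeal_of_surjective _ Ideal.Quotient.mk_surjective
      apply le_antisymm
      · rw [← h2]
        refine (Ideal.map_mono hw).trans ?_
        rw [Ideal.map_sup, Ideal.map_quotient_self, sup_bot_eq, Ideal.map_span, ← Set.range_comp]
        rfl
      · rw [Ideal.span_le, ← h2]
        rintro _ ⟨i, rfl⟩
        exact Ideal.mem_map_of_mem _ (w i).2
    have h3 : (maximalIdeal (B ⧸ J)).spanFinrank ≤ c := by
      rw [h1]
      refine (Submodule.spanFinrank_span_le_ncard_of_finite (Set.finite_range _)).trans ?_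
      rw [← Set.image_univ]
      refine (Set.ncard_image_le Set.finite_univ).trans ?_
      simp
    have h4 : ringKrullDim (B ⧸ J) ≤ (maximalIdeal (B ⧸ J)).spanFinrank :=
      ringKrullDim_le_spanFinrank_maximalIdeal _
    exact h4.trans (by exact_mod_cast h3)
  have hB : (Module.finrank (ResidueField B) (CotangentSpace B) : WithBot ℕ∞) = ringKrullDim B :=
    IsRegularLocalRing.iff_finrank_cotangentSpace B |>.mp inferInstance
  have hA : ringKrullDim A ≤ (Module.finrank (ResidueField A) (CotangentSpace A) : WithBot ℕ∞) := by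
    rw [← IsLocalRing.spanFinrank_maximalIdeal_eq_finrank_cotangentSpace]
    exact ringKrullDim_le_spanFinrank_maximalIdeal _
  -- the image
  rw [injective_iff_map_eq_zero]
  intro a ha
  by_contra hne
  let p := RingHom.ker (algebraMap A B)
  have hptop : p ≠ ⊤ := RingHom.ker_ne_top _
  have hnt' : Nontrivial (A ⧸ p) := Ideal.Quotient.nontrivial_iff.mpr hptop
  have hloc' : IsLocalRing (A ⧸ p) := .of_surjective' (Ideal.Quotient.mk p) Ideal.Quotient.mk_surjective
  let _ : Algebra (A ⧸ p) B := (Ideal.Quotient.lift p (algebraMap A B) fun x hx => hx).toAlgebra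
  have hcomp : (algebraMap (A ⧸ p) B).comp (Ideal.Quotient.mk p) = algebraMap A B := rfl
  have hmap : (maximalIdeal (A ⧸ p)).map (algebraMap (A ⧸ p) B) = J := by
    have h2 : (maximalIdeal A).map (Ideal.Quotient.mk p) = maximalIdeal (A ⧸ p) :=
      IsLocalRing.map_maximalIdeal_of_surjective _ Ideal.Quotient.mk_surjective
    rw [← h2, Ideal.map_map, hcomp]
  have hlh : IsLocalHom (algebraMap (A ⧸ p) B) := by
    refine ((IsLocalRing.local_hom_TFAE (algebraMap (A ⧸ p) B)).out 0 2 rfl rfl).mpr ?_
    change (maximalIdeal (A ⧸ p)).map (algebraMap (A ⧸ p) B) ≤ _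
    rw [hmap]; exact hle
  have hdim := Groth.Agent.S5769.result (A ⧸ p) B
  rw [hmap] at hdim
  have hdimA : ringKrullDim (A ⧸ p) + 1 ≤ ringKrullDim A := by
    refine le_trans ?_ (ringKrullDim_quotient_succ_le_of_nonZeroDivisor (mem_nonZeroDivisors_of_ne_zero hne))
    gcongr
    exact ringKrullDim_le_of_surjective (Ideal.Quotient.factor (S := Ideal.span {a}) (T := p)
      ((Ideal.span_singleton_le_iff_mem _).mpr ha)) (Ideal.Quotient.factor_surjective _)
  -- finiteness
  have hfin : ringKrullDim (A ⧸ p) ≠ ⊤ := by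
    have : FiniteRingKrullDim (A ⧸ p) := inferInstance
    exact ringKrullDim_ne_top
  have hbot : ringKrullDim (A ⧸ p) ≠ ⊥ := ringKrullDim_ne_bot
  obtain ⟨d, hd⟩ : ∃ d : ℕ, ringKrullDim (A ⧸ p) = d := by
    lift ringKrullDim (A ⧸ p) to ℕ∞ using hbot with e he
    have : e ≠ ⊤ := fun h => hfin (by rw [h]; rfl)
    lift e to ℕ using this
    exact ⟨e, rfl⟩
  rw [hd] at hdim hdimA
  rw [← hB, ← hc] at hdim
  have h1 : ((c + Module.finrank (ResidueField B) (Groth.Agent.Ega4late.H544.CotLin.cotSpan (J : Set B)) : ℕ)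
      : WithBot ℕ∞) ≤ ((d + c : ℕ) : WithBot ℕ∞) := by
    refine hdim.trans ?_
    rw [Nat.cast_add]
    gcongr
  have h2 : ((d + 1 : ℕ) : WithBot ℕ∞) ≤
      ((Module.finrank (ResidueField A) (CotangentSpace A) : ℕ) : WithBot ℕ∞) := by
    refine le_trans ?_ hA
    rw [Nat.cast_add]
    exact hdimA
  have h3 := WithBot.coe_le_coe.mp h1
  have h4 := WithBot.coe_le_coe.mp h2
  have h5 := ENat.natCast_le_natCast.mp h3
  have h6 := ENat.natCast_le_natCast.mp h4
  omega

end K924.CotInj
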